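import Mathlib
import Cfsg.Agent.Lib.SymSylow.Over2
import Cfsg.Agent.Lib.SymSylow.Nilp3

/-!
Subgroups of symmetric groups containing Sylow subgroups of the alternating group: cycles of prime
length, four-groups, and sets on which the subgroup induces the alternating group.
-/

set_option autoImplicit false

open MulAction Equiv Equiv.Perm H61

namespace H5.SN

variable {α : Type*} [Fintype α] [DecidableEq α]

omit [Fintype α] [DecidableEq α] in
theorem pow_apply_mem {c : Perm α} {T : Set α} (h : ∀ y ∈ T, c y ∈ T) {x : α} (hx : x ∈ T)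
    (k : ℕ) : (c ^ k) x ∈ T := by
  induction k with
  | zero => exact hx
  | succ k ih => rw [pow_succ', Perm.mul_apply]; exact h _ ih

/-- A block for a cycle of prime length that meets the support and has two points contains the
support. -/
theorem supp_subset_of_block {c : Perm α} (hc : c.IsCycle) (hq : c.support.card.Prime)
    {T : Set α} (hT : ∀ i : ℕ, ∀ y ∈ T, (c ^ i) y ∈ T → ∀ z ∈ T, (c ^ i) z ∈ T)
    {x y : α} (hx : x ∈ T) (hy : y ∈ T) (hxy : x ≠ y) (hcx : c x ≠ x) {z : α} (hz : c z ≠ z) :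
    z ∈ T := by
  have h1 : ∀ w ∈ T, c w ∈ T := by
    by_cases hcy : c y = y
    · simpa using hT 1 y hy (by simpa [hcy] using hy)
    · obtain ⟨i, hi⟩ := hc.exists_pow_eq hcx hcy
      have h2 := hT i x hx (hi ▸ hy)
      have h3 : c ^ i ≠ 1 := fun h => hxy (by rw [← hi, h]; rfl)
      have h4 : Nat.Coprime i (orderOf c) := by
        rw [hc.orderOf, Nat.coprime_comm, hq.coprime_iff_not_dvd, ← hc.orderOf,
          orderOf_dvd_iff_pow_eq_one]
        exact h3
      obtain ⟨m, hm⟩ := exists_pow_eq_self_of_coprime h4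
      intro w hw
      rw [← hm]
      exact pow_apply_mem h2 hw m
  obtain ⟨i, rfl⟩ := hc.exists_pow_eq hcx hz
  exact pow_apply_mem h1 hx i

theorem exists_sylIn_alt {p : ℕ} [Fact p.Prime] {M : Subgroup (Perm α)}
    (h : ¬ p ∣ M.relIndex (alternatingGroup α)) : ∃ P ≤ M, SylIn p P (alternatingGroup α) := by
  obtain ⟨P, hP⟩ := SylIn.exists_sylIn (p := p) (M ⊓ alternatingGroup α)
  exact ⟨P, hP.le.trans inf_le_left,
    hP.of_trans inf_le_right (by rwa [Subgroup.inf_relIndex_right])⟩

omit [DecidableEq α] in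
theorem exists_conj_into {p : ℕ} [Fact p.Prime] {P G : Subgroup (Perm α)} (hP : SylIn p P G)
    {U : Set α} (hU : ∀ g ∈ P, ∀ x ∈ U, g x ∈ U) {E : Subgroup (Perm α)} (hE : IsPGroup p E)
    (h1 : E ≤ G) (h2 : E ≤ symOn U) : ∃ g ∈ G ⊓ symOn U, ∀ x ∈ E, g * x * g⁻¹ ∈ P := by
  open Pointwise in
  have h3 : SylIn p P (G ⊓ stabilizer (Perm α) U) :=
    hP.mono (le_inf hP.le fun g hg => smul_set_eq_of_maps (hU g hg)) inf_le_left
  open Pointwise in
  have h4 := h3.inf_of_normal (N := G ⊓ symOn U)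
    (inf_le_inf_left _ fun g hg => smul_set_eq_of_maps fun x hx => apply_mem_of_mem_symOn hg hx)
    fun k hk x hx => ⟨G.mul_mem (G.mul_mem hk.1 hx.1) (G.inv_mem hk.1),
      conj_mem_symOn (fun y hy => by
        have h5 : k • U = U := hk.2
        rw [← h5]; exact ⟨y, hy, rfl⟩) hx.2⟩
  obtain ⟨k, hk, h5⟩ := h4.exists_conj hE (le_inf h1 h2)
  exact ⟨k, hk, fun x hx => (h5 x hx).1⟩

theorem exists_cycle_in {U : Set α} {k : ℕ} (h2 : 2 ≤ k) (hk : k ≤ U.ncard) :
    ∃ c : Perm α, c.IsCycle ∧ c.support.card = k ∧ c ∈ symOn U := by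
  obtain ⟨T, hT, hTk⟩ := Set.exists_subset_card_eq hk
  let l := (T.toFinite.toFinset).toList
  have hl : l.Nodup := Finset.nodup_toList _
  have hlen : l.length = k := by
    rw [Finset.length_toList, ← hTk, Set.ncard_eq_toFinset_card T T.toFinite]
  have hs := List.support_formPerm_of_nodup l hl (fun x hx => by rw [hx] at hlen; simp at hlen; omega)
  refine ⟨l.formPerm, List.isCycle_formPerm hl (by omega), ?_, mem_symOn.mpr fun x hx => ?_⟩
  · rw [hs, List.toFinset_card_of_nodup hl, hlen]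
  · by_contra h
    have := mem_support.mpr h
    rw [hs] at this
    exact hx (hT (by simpa [l] using this))

theorem mem_alt_of_cycle {c : Perm α} (hc : c.IsCycle) (h : Odd c.support.card) :
    c ∈ alternatingGroup α := by
  rw [mem_alternatingGroup, hc.sign, h.neg_one_pow]; simp

theorem exists_pcycle {p : ℕ} [Fact p.Prime] (h2 : p ≠ 2) {P G : Subgroup (Perm α)}
    (hG : alternatingGroup α ≤ G) (hP : SylIn p P G) {U : Set α}
    (hU : ∀ g ∈ P, ∀ x ∈ U, g x ∈ U) (hp : p ≤ U.ncard) :
    ∃ c ∈ P, c.IsCycle ∧ c.support.card = p ∧ c ∈ symOn U := by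
  have hpp : p.Prime := Fact.out
  obtain ⟨c, hc, hcp, hcU⟩ := exists_cycle_in hpp.two_le hp
  obtain ⟨g, hg, h⟩ := exists_conj_into hP hU (E := Subgroup.zpowers c)
    (isPGroup_zpowers (k := 1) (by rw [pow_one, ← hcp, ← hc.orderOf, pow_orderOf_eq_one]))
    (by simpa using hG (mem_alt_of_cycle hc (hcp ▸ hpp.odd_of_ne_two h2))) (by simpa using hcU)
  exact ⟨_, h c (Subgroup.mem_zpowers c), hc.conj, by rw [card_support_conj, hcp],
    conj_mem_symOn (fun x hx => apply_mem_of_mem_symOn hg.2 hx) hcU⟩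

/-- Any `p` points contain a point moved by a `p`-cycle of `M`. -/
theorem exists_moved {p : ℕ} [Fact p.Prime] (h2 : p ≠ 2) {M : Subgroup (Perm α)}
    (h : ¬ p ∣ M.relIndex (alternatingGroup α)) {T : Set α} (hT : p ≤ T.ncard) :
    ∃ x ∈ T, ∃ c ∈ M, c.IsCycle ∧ c.support.card = p ∧ c x ≠ x := by
  obtain ⟨P, hPM, hP⟩ := exists_sylIn_alt h
  by_contra hn
  push Not at hn
  let U : Set α := {x | ∀ c ∈ M, c.IsCycle → c.support.card = p → c x = x}
  obtain ⟨c, hc, h1, h3, h4⟩ := exists_pcycle h2 le_rfl hP (U := U) (fun g hg x hx c hc h1 h3 => by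
      have := hx (g⁻¹ * c * g⁻¹⁻¹)
        (M.mul_mem (M.mul_mem (M.inv_mem (hPM hg)) hc) (M.inv_mem (M.inv_mem (hPM hg)))) h1.conj
        (by rw [card_support_conj, h3])
      simpa [Equiv.symm_apply_eq] using this)
    (hT.trans (Set.ncard_le_ncard (fun x hx => hn x hx) (Set.toFinite _)))
  obtain ⟨x, hx, -⟩ := id h1
  have hxU : x ∈ U := by
    by_contra hxU
    exact hx (mem_symOn.mp h4 x hxU)
  exact hx (hxU c (hPM hc) h1 h3)

omit [Fintype α] [DecidableEq α] in
theorem card_orbit_dvd (M : Subgroup (Perm α)) {L : Subgroup (Perm α)} (h : L ≤ M) (x : α) :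
    (orbit L x).ncard ∣ Nat.card M := by
  rw [← index_stabilizer]
  exact (Subgroup.index_dvd_card _).trans (Subgroup.card_dvd_of_le h)

theorem mem_supp_conj {c g : Perm α} {x : α} :
    x ∈ (g * c * g⁻¹).support ↔ g⁻¹ x ∈ c.support := by
  simp [mem_support, ← Perm.eq_inv_iff_eq]

/-- Overlapping `p`-cycles with different supports give even order. -/
theorem two_dvd_of_overlap {p : ℕ} (hp : p.Prime) (h2 : p ≠ 2) {M : Subgroup (Perm α)} (k : ℕ) :
    ∀ {s t : Perm α}, s ∈ M → t ∈ M → s.IsCycle → t.IsCycle → s.support.card = p →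
      t.support.card = p → s.support ≠ t.support → (s.support ∩ t.support).Nonempty →
      (s.support ∪ t.support).card = k → 2 ∣ Nat.card M := by
  induction k using Nat.strong_induction_on with
  | _ k ih =>
  intro s t hs ht hsc htc hsp htp hne hint hk
  obtain ⟨x, hx⟩ := hint
  rw [Finset.mem_inter] at hx
  have hB : (t.support \ s.support).Nonempty := by
    rw [Finset.sdiff_nonempty]
    exact fun h => hne (Finset.eq_of_subset_of_card_le h (by omega)).symm
  obtain ⟨b, hb⟩ := hB
  by_cases h1 : ∀ b' ∈ t.support \ s.support, b' = b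
  · have hb' := Finset.mem_sdiff.mp hb
    have : orbit (Subgroup.zpowers s ⊔ Subgroup.zpowers t : Subgroup (Perm α)) x =
        ((insert b s.support : Finset α) : Set α) := by
      refine Set.Subset.antisymm ?_ ?_
      · have hmem : ∀ y, y ∈ s.support ∨ y ∈ t.support → y ∈ insert b s.support := fun y hy => by
          rw [Finset.mem_insert]
          by_cases hys : y ∈ s.support
          · exact Or.inr hys
          · exact Or.inl (h1 y (Finset.mem_sdiff.mpr ⟨hy.resolve_left hys, hys⟩))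
        refine orbit_subset_of_le_symOn (sup_le ?_ ?_) (hmem x (Or.inl hx.1))
        · rw [Subgroup.zpowers_le, mem_symOn]
          intro y hy
          by_contra h
          exact hy (hmem y (Or.inl (mem_support.mpr h)))
        · rw [Subgroup.zpowers_le, mem_symOn]
          intro y hy
          by_contra h
          exact hy (hmem y (Or.inr (mem_support.mpr h)))
      · intro y hy
        rw [Finset.mem_coe, Finset.mem_insert] at hy
        rcases hy with rfl | hy
        · obtain ⟨i, hi⟩ := htc.exists_pow_eq (mem_support.mp hx.2) (mem_support.mp hb'.1)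
          exact mem_orbit_subgroup.mpr ⟨t ^ i, Subgroup.mem_sup_right
            (Subgroup.npow_mem_zpowers t i), hi⟩
        · obtain ⟨i, hi⟩ := hsc.exists_pow_eq (mem_support.mp hx.1) (mem_support.mp hy)
          exact mem_orbit_subgroup.mpr ⟨s ^ i, Subgroup.mem_sup_left
            (Subgroup.npow_mem_zpowers s i), hi⟩
    have h3 := card_orbit_dvd M (L := Subgroup.zpowers s ⊔ Subgroup.zpowers t)
      (sup_le (by simpa using hs) (by simpa using ht)) x
    rw [this, Set.ncard_coe_finset, Finset.card_insert_of_notMem hb'.2, hsp] at h3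
    exact (hp.odd_of_ne_two h2).add_one.two_dvd.trans h3
  · push Not at h1
    obtain ⟨b', hb', hbb⟩ := h1
    have h3 : ¬ ∀ i : ℕ, ∀ y ∈ ((t.support \ s.support : Finset α) : Set α),
        (t ^ i) y ∈ ((t.support \ s.support : Finset α) : Set α) →
        ∀ z ∈ ((t.support \ s.support : Finset α) : Set α),
          (t ^ i) z ∈ ((t.support \ s.support : Finset α) : Set α) := fun h3 =>
      (Finset.mem_sdiff.mp (supp_subset_of_block htc (htp ▸ hp) h3 hb' hb hbb
        (mem_support.mp (Finset.mem_sdiff.mp hb').1) (mem_support.mp hx.2))).2 hx.1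
    push Not at h3
    obtain ⟨i, y, hy, hy', z, hz, hz'⟩ := h3
    simp only [Finset.mem_coe, Finset.mem_sdiff] at hy hy' hz hz'
    have hts : ∀ w, (t ^ i) w ∈ t.support ↔ w ∈ t.support := fun w => pow_apply_mem_support
    have hzs : (t ^ i) z ∈ s.support := by
      by_contra h; exact hz' ⟨(hts z).mpr hz.1, h⟩
    refine ih _ ?_ hs (M.mul_mem (M.mul_mem (M.pow_mem ht i) hs) (M.inv_mem (M.pow_mem ht i)))
      hsc hsc.conj hsp (by rw [card_support_conj, hsp]) (fun h => ?_) ?_ rfl
    · rw [← hk]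
      refine Finset.card_lt_card ⟨fun w hw => ?_, fun h => ?_⟩
      · rw [Finset.mem_union] at hw ⊢
        rcases hw with hw | hw
        · exact Or.inl hw
        · by_cases hwt : w ∈ t.support
          · exact Or.inr hwt
          · rw [mem_supp_conj] at hw
            have : (t ^ i)⁻¹ w = w := by
              rw [Perm.inv_eq_iff_eq, pow_apply_eq_self_of_apply_eq_self (notMem_support.mp hwt)]
            exact Or.inl (this ▸ hw)
      · have := h (Finset.mem_union_right _ hy'.1)
        rw [Finset.mem_union, mem_supp_conj] at this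
        rcases this with h4 | h4
        · exact hy'.2 h4
        · simp only [Perm.coe_inv, symm_apply_apply] at h4
          exact hy.2 h4
    · rw [h, mem_supp_conj] at hzs
      simp only [Perm.coe_inv, symm_apply_apply] at hzs
      exact hz.2 hzs
    · obtain ⟨w, hw, hwt⟩ : ∃ w ∈ s.support, w ∉ t.support := by
        by_contra h
        push Not at h
        exact hne (Finset.eq_of_subset_of_card_le h (by omega))
      refine ⟨w, Finset.mem_inter.mpr ⟨hw, ?_⟩⟩
      rw [mem_supp_conj]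
      have : (t ^ i)⁻¹ w = w := by
        rw [Perm.inv_eq_iff_eq, pow_apply_eq_self_of_apply_eq_self (notMem_support.mp hwt)]
      rwa [this]

theorem two_dvd_card {p q : ℕ} [Fact p.Prime] [Fact q.Prime] (h2 : p ≠ 2) (hpq : p < q)
    (hq : q ≤ Fintype.card α) {M : Subgroup (Perm α)}
    (h1 : ¬ p ∣ M.relIndex (alternatingGroup α)) (h3 : ¬ q ∣ M.relIndex (alternatingGroup α)) :
    2 ∣ Nat.card M := by
  have hp : p.Prime := Fact.out
  have hq' : q.Prime := Fact.out
  obtain ⟨-, -, c, hc, hcc, hcq, -⟩ := exists_moved (p := q) (by have := hp.two_le; omega) h3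
    (T := Set.univ) (by rwa [Set.ncard_univ, Nat.card_eq_fintype_card])
  obtain ⟨x, hx, s, hs, hsc, hsp, hsx⟩ := exists_moved h2 h1 (T := c.support)
    (by rw [Set.ncard_coe_finset]; omega)
  have h4 : ¬ ∀ i : ℕ, ∀ y ∈ (s.support : Set α), (c ^ i) y ∈ (s.support : Set α) →
      ∀ z ∈ (s.support : Set α), (c ^ i) z ∈ (s.support : Set α) := fun h4 => by
    have : c.support ⊆ s.support := fun z hz =>
      supp_subset_of_block hcc (hcq ▸ hq') h4 (mem_support.mpr hsx)
        (apply_mem_support.mpr (mem_support.mpr hsx)) hsx.symm (mem_support.mp hx)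
        (mem_support.mp hz)
    have := Finset.card_le_card this
    omega
  push Not at h4
  obtain ⟨i, y, hy, hy', z, hz, hz'⟩ := h4
  refine two_dvd_of_overlap hp h2 _ hs
    (M.mul_mem (M.mul_mem (M.pow_mem hc i) hs) (M.inv_mem (M.pow_mem hc i))) hsc hsc.conj hsp
    (by rw [card_support_conj, hsp]) (fun h => hz' ?_) ⟨(c ^ i) y, Finset.mem_inter.mpr ⟨hy', ?_⟩⟩
    rfl
  · rw [Finset.mem_coe, h, mem_supp_conj]; simpa using hz
  · rw [mem_supp_conj]; simpa using hy

section V4

variable {M : Subgroup (Perm α)} {a b c d e f g : α}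

theorem three_dvd_of_threeCycle (h : ∃ σ ∈ M, IsThreeCycle σ) : 3 ∣ Nat.card M := by
  obtain ⟨σ, hσ, h3⟩ := h
  rw [← h3.orderOf]
  exact Subgroup.orderOf_dvd_natCard M hσ

theorem three_dvd_of_two (h : V4 M a b c d) (h' : V4 M a b e f) (hce : c ≠ e)
    (hcf : c ≠ f) (hde : d ≠ e) (hdf : d ≠ f) : 3 ∣ Nat.card M := by
  have c1 : Commute (swap b d) (swap a e) := commute_swap_swap h.ab.symm h'.bc h.ad.symm hde
  have c2 : Commute (swap b d) (swap a c) := commute_swap_swap h.ab.symm h.bc h.ad.symm h.cd.symm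
  have c3 : Commute (swap b f) (swap a e) :=
    commute_swap_swap h.ab.symm h'.bc h'.ad.symm h'.cd.symm
  have c4 : Commute (swap b f) (swap a c) := commute_swap_swap h.ab.symm h.bc h'.ad.symm hcf.symm
  have e1 : swap a c * swap b d * (swap a e * swap b f) =
      (swap a c * swap a e) * (swap b d * swap b f) := by
    simp only [mul_assoc]
    rw [← mul_assoc (swap b d), c1.eq, mul_assoc]
  have hc : Commute (swap a c * swap a e) (swap b d * swap b f) :=
    ((c2.mul_right c1).mul_left (c4.mul_right c3)).symm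
  have t1 := isThreeCycle_swap_mul_swap_same h.ac h'.ac hce
  have t2 := isThreeCycle_swap_mul_swap_same h.bd h'.bd hdf
  have : Fact (Nat.Prime 3) := ⟨Nat.prime_three⟩
  have h3 : orderOf (swap a c * swap b d * (swap a e * swap b f)) = 3 := orderOf_eq_prime (by
    rw [e1, hc.mul_pow, ← t1.orderOf, pow_orderOf_eq_one, t1.orderOf, ← t2.orderOf,
      pow_orderOf_eq_one, mul_one]) fun this => by
    have h2 := congrArg (fun σ : Perm α => σ a) this
    simp only [Perm.mul_apply, swap_apply_of_ne_of_ne h.ab h'.ad, swap_apply_left,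
      swap_apply_of_ne_of_ne h'.bc.symm hde.symm, swap_apply_of_ne_of_ne h'.ac.symm hce.symm,
      Perm.one_apply] at h2
    exact h'.ac h2.symm
  rw [← h3]
  exact Subgroup.orderOf_dvd_natCard M (M.mul_mem h.m2 h'.m2)

theorem v4_mem (hM : ¬ 3 ∣ Nat.card M) (h : V4 M a b c d) (h' : V4 M a e f g) :
    e = b ∨ e = c ∨ e = d := by
  by_contra hcon
  push Not at hcon
  obtain ⟨h1, h2, h3⟩ := hcon
  have aux : ∀ {b c d f g : α}, V4 M a b c d → V4 M a e f g → e ≠ b → e ≠ c → e ≠ d → f = b →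
      False := by
    intro b c d f g h h' h1 h2 h3 hf
    subst hf
    by_cases hg : g = c
    · subst hg
      exact hM (three_dvd_of_threeCycle (h.three_of_three h'.s23.s34 h3.symm))
    by_cases hg' : g = d
    · subst hg'
      exact hM (three_dvd_of_threeCycle (h.s34.three_of_three h'.s23.s34 h2.symm))
    exact hM (three_dvd_of_two h h'.s23 h2.symm (Ne.symm hg) h3.symm (Ne.symm hg'))
  by_cases f1 : f = b
  · exact aux h h' h1 h2 h3 f1
  by_cases f2 : f = c
  · exact aux h.s23 h' h2 h1 h3 f2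
  by_cases f3 : f = d
  · exact aux h.s34.s23 h' h3 h1 h2 f3
  by_cases g1 : g = b
  · exact aux h h'.s34 h1 h2 h3 g1
  by_cases g2 : g = c
  · exact aux h.s23 h'.s34 h2 h1 h3 g2
  by_cases g3 : g = d
  · exact aux h.s34.s23 h'.s34 h3 h1 h2 g3
  exact hM (three_dvd_of_threeCycle (h.three_of_one h' h1.symm (Ne.symm f1) (Ne.symm g1) h2.symm
    (Ne.symm f2) (Ne.symm g2) h3.symm (Ne.symm f3) (Ne.symm g3)))

theorem v4_rot (h : V4 M a b c d) {x : α} (hx : x ∈ ({a, b, c, d} : Set α)) :
    ∃ y z w, V4 M x y z w ∧ ({x, y, z, w} : Set α) = {a, b, c, d} := by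
  rcases hx with rfl | rfl | rfl | rfl
  · exact ⟨_, _, _, h, rfl⟩
  · exact ⟨_, _, _, h.s12, by ext; simp; tauto⟩
  · exact ⟨_, _, _, h.s23.s12, by ext; simp; tauto⟩
  · exact ⟨_, _, _, h.s34.s23.s12, by ext; simp; tauto⟩

theorem v4_subset (hM : ¬ 3 ∣ Nat.card M) {a' : α} (h : V4 M a b c d) (h' : V4 M a' e f g) {x : α}
    (hx : x ∈ ({a, b, c, d} : Set α)) (hx' : x ∈ ({a', e, f, g} : Set α)) :
    ({a', e, f, g} : Set α) ⊆ {a, b, c, d} := by
  obtain ⟨y, z, w, h1, h2⟩ := v4_rot h hx
  obtain ⟨y', z', w', h3, h4⟩ := v4_rot h' hx'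
  rw [← h2, ← h4]
  rintro t (rfl | rfl | rfl | rfl)
  · exact Or.inl rfl
  · exact Or.inr (v4_mem hM h1 h3)
  · exact Or.inr (v4_mem hM h1 h3.s23)
  · exact Or.inr (v4_mem hM h1 h3.s34.s23)

theorem exists_V4_in {P G : Subgroup (Perm α)} (hG : alternatingGroup α ≤ G) (hP : SylIn 2 P G)
    {U : Set α} (hU : ∀ g ∈ P, ∀ x ∈ U, g x ∈ U) (h4 : 4 ≤ U.ncard) :
    ∃ a ∈ U, ∃ b ∈ U, ∃ c ∈ U, ∃ d ∈ U, V4 P a b c d := by
  obtain ⟨a, haU, -⟩ := exists_mem_not_mem_list (D := U) [] (by simp; omega)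
  obtain ⟨b, hbU, hb⟩ := exists_mem_not_mem_list (D := U) [a] (by simp; omega)
  obtain ⟨c, hcU, hc⟩ := exists_mem_not_mem_list (D := U) [a, b] (by simp; omega)
  obtain ⟨d, hdU, hd⟩ := exists_mem_not_mem_list (D := U) [a, b, c] (by simp; omega)
  simp only [List.mem_cons, List.not_mem_nil, or_false, not_or] at hb hc hd
  have hab : a ≠ b := Ne.symm hb
  have hac : a ≠ c := Ne.symm hc.1
  have hbc : b ≠ c := Ne.symm hc.2
  have had : a ≠ d := Ne.symm hd.1
  have hbd : b ≠ d := Ne.symm hd.2.1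
  have hcd : c ≠ d := Ne.symm hd.2.2
  have e1 := v4_mul hab hac had hbc hbd hcd
  have e2 : (swap a c * swap b d) * (swap a b * swap c d) = swap a d * swap b c := by
    rw [v4_mul hac hab had hbc.symm hcd hbd, swap_comm c b]
  have hQ := isPGroup_zpowers_sup (p := 2) (k := 1) (l := 1) (x := swap a b * swap c d)
    (y := swap a c * swap b d)
    (by rw [pow_one, (commute_swap_swap hac had hbc hbd).mul_pow]; simp [sq])
    (by rw [pow_one, (commute_swap_swap hab had hbc.symm hcd).mul_pow]; simp [sq])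
    (e1.trans e2.symm)
  have m1 := (le_sup_left : _ ≤ Subgroup.zpowers (swap a b * swap c d) ⊔
    Subgroup.zpowers (swap a c * swap b d)) (Subgroup.mem_zpowers _)
  have m2 := (le_sup_right : _ ≤ Subgroup.zpowers (swap a b * swap c d) ⊔
    Subgroup.zpowers (swap a c * swap b d)) (Subgroup.mem_zpowers _)
  have hV : V4 _ a b c d := ⟨hab, hac, had, hbc, hbd, hcd, m1, m2, e1 ▸ Subgroup.mul_mem _ m1 m2⟩
  obtain ⟨k, hk0, hk⟩ := exists_conj_into hP hU hQ (sup_le
    (by simpa using hG (swap_mul_swap_mem_alt hab hcd))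
    (by simpa using hG (swap_mul_swap_mem_alt hac hbd))) (sup_le
    (by simpa using mul_mem (swap_mem_symOn haU hbU) (swap_mem_symOn hcU hdU))
    (by simpa using mul_mem (swap_mem_symOn haU hcU) (swap_mem_symOn hbU hdU)))
  exact ⟨_, apply_mem_of_mem_symOn hk0.2 haU, _, apply_mem_of_mem_symOn hk0.2 hbU, _,
    apply_mem_of_mem_symOn hk0.2 hcU, _, apply_mem_of_mem_symOn hk0.2 hdU, hV.conj hk⟩

/-- Any four points contain a point of a four-set of `M`. -/
theorem exists_V4_meet (h : ¬ 2 ∣ M.relIndex (alternatingGroup α)) {T : Set α}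
    (hT : 4 ≤ T.ncard) : ∃ a ∈ T, ∃ b c d, V4 M a b c d := by
  obtain ⟨P, hPM, hP⟩ := exists_sylIn_alt h
  by_contra hn
  push Not at hn
  obtain ⟨a, ha, b, -, c, -, d, -, h1⟩ := exists_V4_in le_rfl hP
    (U := {a | ∀ b c d, ¬ V4 M a b c d}) (fun g hg x hx b c d hV => by
      have := hV.smul (M.inv_mem (hPM hg))
      simp only [Perm.coe_inv, symm_apply_apply] at this
      exact hx _ _ _ this)
    (hT.trans (Set.ncard_le_ncard (fun x hx => hn x hx) (Set.toFinite _)))
  exact ha b c d (h1.mono hPM)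

theorem three_dvd_card {q : ℕ} [Fact q.Prime] (h5 : 5 ≤ q) (hq : q ≤ Fintype.card α)
    (h1 : ¬ 2 ∣ M.relIndex (alternatingGroup α)) (h3 : ¬ q ∣ M.relIndex (alternatingGroup α)) :
    3 ∣ Nat.card M := by
  have hq' : q.Prime := Fact.out
  by_contra hM
  obtain ⟨-, -, s, hs, hsc, hsq, -⟩ := exists_moved (p := q) (by omega) h3
    (T := Set.univ) (by rwa [Set.ncard_univ, Nat.card_eq_fintype_card])
  obtain ⟨a, ha, b, c, d, hV⟩ := exists_V4_meet h1 (T := s.support)
    (by rw [Set.ncard_coe_finset]; omega)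
  have himg : ∀ (σ : Perm α) (y : α), y ∈ ({a, b, c, d} : Set α) →
      σ y ∈ ({σ a, σ b, σ c, σ d} : Set α) := by
    rintro σ y (rfl | rfl | rfl | rfl) <;> simp
  have : (s.support : Set α) ⊆ {a, b, c, d} := fun z hz =>
    supp_subset_of_block hsc (hsq ▸ hq') (T := {a, b, c, d})
      (fun i y hy hy' z hz => v4_subset hM hV (hV.smul (M.pow_mem hs i)) hy' (himg _ y hy)
        (himg _ z hz)) (x := a) (y := b) (by simp) (by simp) hV.ab (mem_support.mp ha)
      (mem_support.mp hz)
  have h4 := Set.ncard_le_ncard this (Set.toFinite _)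
  have h6 : ({a, b, c, d} : Set α).ncard ≤ 4 :=
    (Set.ncard_insert_le _ _).trans (Nat.succ_le_succ ((Set.ncard_insert_le _ _).trans
      (Nat.succ_le_succ ((Set.ncard_insert_le _ _).trans (by simp)))))
  rw [Set.ncard_coe_finset] at h4
  omega

end V4

end H5.SN
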