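import Mathlib
import Cfsg.Agent.Lib.SN.Cyc
import Cfsg.Agent.Lib.SymMax.Partition
import Cfsg.Agent.Lib.Perm29.AutAlt

/-!
The partition of the points defined by the 3-cycles of a permutation group.
-/

set_option autoImplicit false

open MulAction Equiv Equiv.Perm H61

namespace H5.SN

variable {α : Type*} [Fintype α] [DecidableEq α] {M : Subgroup (Perm α)}

/-- `M` contains the alternating group of `D`, and `D` has at least three points. -/
structure Full (M : Subgroup (Perm α)) (D : Set α) : Prop where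
  le : alternatingGroup α ⊓ symOn D ≤ M
  three : 3 ≤ D.ncard

theorem Full.image {D : Set α} (h : Full M D) {g : Perm α}
    (hg : ∀ x ∈ M, g * x * g⁻¹ ∈ M) : Full M (g '' D) := by
  refine ⟨fun x hx => ?_, by rw [Set.ncard_image_of_injective _ g.injective]; exact h.three⟩
  have h1 : g⁻¹ * x * g ∈ alternatingGroup α ⊓ symOn D := by
    refine ⟨by simpa using (alternatingGroup.normal).conj_mem x hx.1 g⁻¹, mem_symOn.mpr fun y hy => ?_⟩
    have := mem_symOn.mp hx.2 (g y) (by simpa using hy)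
    simp [this]
  simpa [mul_assoc] using hg _ (h.le h1)

theorem Full.exists_map {D : Set α} (h : Full M D) {a c : α} (ha : a ∈ D) (hc : c ∈ D) :
    ∃ g ∈ alternatingGroup α ⊓ symOn D, g a = c := by
  by_cases hac : a = c
  · exact ⟨1, one_mem _, hac⟩
  obtain ⟨w, hwD, hw⟩ := exists_mem_not_mem_list (D := D) [a, c] (by have := h.three; simp; omega)
  simp only [List.mem_cons, List.not_mem_nil, or_false, not_or] at hw
  obtain ⟨h1, h2, -⟩ := exists_alt_map hac (Ne.symm hw.1) (Ne.symm hw.2)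
  exact ⟨_, ⟨h1, mul_mem (swap_mem_symOn ha hc) (swap_mem_symOn hc hwD)⟩, h2⟩

theorem Full.insert_of {D : Set α} (h : Full M D) {b : α} {σ : Perm α} (hσ : σ ∈ M)
    (h1 : σ ∈ alternatingGroup α ⊓ symOn (insert b D)) (h2 : σ b ≠ b) : Full M (insert b D) := by
  refine ⟨fun g hg => ?_, h.three.trans
    (Set.ncard_le_ncard (Set.subset_insert _ _) (Set.toFinite _))⟩
  have key : ∀ g ∈ alternatingGroup α ⊓ symOn (insert b D), g b = b → g ∈ M := fun g hg hb =>
    h.le ⟨hg.1, mem_symOn.mpr fun y hy => by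
      by_cases hyb : y = b
      · rw [hyb, hb]
      · exact mem_symOn.mp hg.2 y (by rintro (h | h); exacts [hyb h, hy h])⟩
  by_cases hb : g b = b
  · exact key g hg hb
  have h3 : g b ∈ D := (apply_mem_of_mem_symOn hg.2 (Set.mem_insert _ _)).resolve_left hb
  have h4 : σ b ∈ D := (apply_mem_of_mem_symOn h1.2 (Set.mem_insert _ _)).resolve_left h2
  obtain ⟨k, hk, hk'⟩ := h.exists_map h4 h3
  have h5 : k * σ ∈ alternatingGroup α ⊓ symOn (insert b D) :=
    mul_mem ⟨hk.1, symOn_mono (Set.subset_insert _ _) hk.2⟩ h1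
  have h6 := key ((k * σ)⁻¹ * g) (mul_mem (inv_mem h5) hg) (by
    rw [Perm.mul_apply, Perm.inv_eq_iff_eq, Perm.mul_apply, hk'])
  simpa [mul_assoc] using M.mul_mem (M.mul_mem (h.le hk) hσ) h6

theorem Full.insert {D D' : Set α} (h : Full M D) (h' : Full M D') {x b : α} (hx : x ∈ D)
    (hx' : x ∈ D') (hb : b ∈ D') : Full M (insert b D) := by
  by_cases hbD : b ∈ D
  · rwa [Set.insert_eq_of_mem hbD]
  have hbx : b ≠ x := fun e => hbD (e ▸ hx)
  obtain ⟨w, hwD, hw⟩ := exists_mem_not_mem_list (D := D') [b, x]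
    (by have := h'.three; simp; omega)
  simp only [List.mem_cons, List.not_mem_nil, or_false, not_or] at hw
  obtain ⟨h1, h2, h3⟩ := exists_alt_map hbx (Ne.symm hw.1) (Ne.symm hw.2)
  have hσ : swap b x * swap x w ∈ M :=
    h'.le ⟨h1, mul_mem (swap_mem_symOn hb hx') (swap_mem_symOn hx' hwD)⟩
  by_cases hwD' : w ∈ D
  · exact h.insert_of hσ ⟨h1, mul_mem (swap_mem_symOn (Or.inl rfl) (Or.inr hx))
      (swap_mem_symOn (Or.inr hx) (Or.inr hwD'))⟩ (by rw [h2]; exact hbx.symm)
  · obtain ⟨y, hyD, hy⟩ := exists_mem_not_mem_list (D := D) [x] (by have := h.three; simp; omega)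
    obtain ⟨z, hzD, hz⟩ := exists_mem_not_mem_list (D := D) [x, y]
      (by have := h.three; simp; omega)
    simp only [List.mem_cons, List.not_mem_nil, or_false, not_or] at hy hz
    obtain ⟨k1, k2, k3⟩ := exists_alt_map (Ne.symm hy) (Ne.symm hz.1) (Ne.symm hz.2)
    have hτ : swap x y * swap y z ∈ M :=
      h.le ⟨k1, mul_mem (swap_mem_symOn hx hyD) (swap_mem_symOn hyD hzD)⟩
    have e1 : (swap b x * swap x w)⁻¹ x = b := by rw [Perm.inv_eq_iff_eq, h2]
    have e2 : (swap b x * swap x w)⁻¹ y = y := by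
      rw [Perm.inv_eq_iff_eq, h3 y (fun e => hbD (e ▸ hyD)) hy (fun e => hwD' (e ▸ hyD))]
    have e3 : (swap b x * swap x w)⁻¹ z = z := by
      rw [Perm.inv_eq_iff_eq, h3 z (fun e => hbD (e ▸ hzD)) hz.1 (fun e => hwD' (e ▸ hzD))]
    have e4 : (swap b x * swap x w)⁻¹ * (swap x y * swap y z) * (swap b x * swap x w)⁻¹⁻¹ =
        swap b y * swap y z := by
      conv_rhs => rw [← e1, ← e2, ← e3, swap_apply_apply, swap_apply_apply]
      group
    have hby : b ≠ y := fun e => hbD (e ▸ hyD)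
    obtain ⟨l1, l2, -⟩ := exists_alt_map hby (fun e => hbD (e ▸ hzD)) (Ne.symm hz.2)
    refine h.insert_of (σ := swap b y * swap y z) ?_ ⟨l1, mul_mem
      (swap_mem_symOn (Or.inl rfl) (Or.inr hyD)) (swap_mem_symOn (Or.inr hyD) (Or.inr hzD))⟩
      (by rw [l2]; exact hby.symm)
    rw [← e4]
    exact M.mul_mem (M.mul_mem (M.inv_mem hσ) hτ) (M.inv_mem (M.inv_mem hσ))

theorem Full.exists_max {D : Set α} (h : Full M D) :
    ∃ E, Full M E ∧ D ⊆ E ∧ ∀ D', Full M D' → ∀ x ∈ E, x ∈ D' → D' ⊆ E := by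
  obtain ⟨E, ⟨hE, hDE⟩, hmax⟩ := (Set.toFinite {E | Full M E ∧ D ⊆ E}).exists_maximal
    ⟨D, h, subset_rfl⟩
  refine ⟨E, hE, hDE, fun D' hD' x hx hx' b hb => ?_⟩
  exact hmax ⟨hE.insert hD' hx hx' hb, hDE.trans (Set.subset_insert _ _)⟩ (Set.subset_insert _ _)
    (Set.mem_insert _ _)

/-- The class of a point. -/
def blk (M : Subgroup (Perm α)) (x : α) : Set α := {y | y = x ∨ ∃ D, Full M D ∧ x ∈ D ∧ y ∈ D}

theorem mem_blk_self (x : α) : x ∈ blk M x := Or.inl rfl

theorem Full.blk {D : Set α} (h : Full M D) {x : α} (hx : x ∈ D) :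
    Full M (blk M x) ∧ D ⊆ blk M x := by
  obtain ⟨E, hE, hDE, hmax⟩ := h.exists_max
  have : H5.SN.blk M x = E := by
    ext y
    constructor
    · rintro (rfl | ⟨D', h1, h2, h3⟩)
      · exact hDE hx
      · exact hmax D' h1 x (hDE hx) h2 h3
    · exact fun hy => Or.inr ⟨E, hE, hDE hx, hy⟩
  rw [this]
  exact ⟨hE, hDE⟩

theorem full_blk_of_ne {x y : α} (hy : y ∈ blk M x) (hne : y ≠ x) : Full M (blk M x) := by
  obtain ⟨D, h1, h2, -⟩ := hy.resolve_left hne
  exact (h1.blk h2).1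

theorem full_blk_of_two_le {x : α} (h : 2 ≤ (blk M x).ncard) : Full M (blk M x) := by
  obtain ⟨y, hy, hne⟩ := Set.exists_ne_of_one_lt_ncard h x
  exact full_blk_of_ne hy hne

theorem blk_eq_of_mem {x y : α} (hy : y ∈ blk M x) : blk M y = blk M x := by
  by_cases hne : y = x
  · rw [hne]
  have h1 := full_blk_of_ne hy hne
  have h2 := h1.blk hy
  exact Set.Subset.antisymm (h2.1.blk (h2.2 (mem_blk_self x))).2 h2.2

theorem mem_blk_iff {x y : α} : y ∈ blk M x ↔ blk M y = blk M x :=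
  ⟨blk_eq_of_mem, fun h => h ▸ mem_blk_self y⟩

theorem mem_blk_comm {x y : α} : y ∈ blk M x ↔ x ∈ blk M y := by
  rw [mem_blk_iff, mem_blk_iff, eq_comm]

theorem mem_partStab_blk_of_norm {g : Perm α} (hg : ∀ x ∈ M, g * x * g⁻¹ ∈ M)
    (hg' : ∀ x ∈ M, g⁻¹ * x * g⁻¹⁻¹ ∈ M) : g ∈ H98.partStab (blk M) := by
  have key : ∀ g : Perm α, (∀ x ∈ M, g * x * g⁻¹ ∈ M) → ∀ x y, blk M x = blk M y →
      blk M (g x) = blk M (g y) := fun g hg x y h => by
    rw [← mem_blk_iff] at h ⊢
    rcases h with rfl | ⟨D, h1, h2, h3⟩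
    · exact Or.inl rfl
    · exact Or.inr ⟨g '' D, h1.image hg, ⟨y, h2, rfl⟩, ⟨x, h3, rfl⟩⟩
  refine H98.mem_partStab.mpr fun x y => ⟨key g hg x y, fun h => ?_⟩
  simpa using key g⁻¹ hg' _ _ h

theorem le_partStab_blk : M ≤ H98.partStab (blk M) := fun _ hg =>
  mem_partStab_blk_of_norm (fun _ hx => M.mul_mem (M.mul_mem hg hx) (M.inv_mem hg))
    fun _ hx => M.mul_mem (M.mul_mem (M.inv_mem hg) hx) (M.inv_mem (M.inv_mem hg))

theorem image_blk {g : Perm α} (hg : g ∈ H98.partStab (blk M)) (x : α) :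
    g '' blk M x = blk M (g x) := by
  ext y
  obtain ⟨z, rfl⟩ := g.surjective y
  rw [g.injective.mem_set_image, mem_blk_iff, mem_blk_iff]
  exact H98.mem_partStab.mp hg z x

theorem ncard_blk_apply {g : Perm α} (hg : g ∈ H98.partStab (blk M)) (x : α) :
    (blk M (g x)).ncard = (blk M x).ncard := by
  rw [← image_blk hg, Set.ncard_image_of_injective _ g.injective]

theorem full_support {σ : Perm α} (hσ : σ ∈ M) (h3 : IsThreeCycle σ) :
    Full M (σ.support : Set α) := by
  refine ⟨fun g hg => ?_, by rw [Set.ncard_coe_finset, h3.card_support]⟩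
  have hle : Subgroup.zpowers σ ≤ alternatingGroup α ⊓ symOn (σ.support : Set α) := by
    rw [Subgroup.zpowers_le]
    exact ⟨h3.mem_alternatingGroup, mem_symOn.mpr fun x hx => notMem_support.mp hx⟩
  have h1 : Nat.card (Subgroup.zpowers σ) = 3 := by rw [Nat.card_zpowers, h3.orderOf]
  have h2 : 2 * Nat.card (alternatingGroup α ⊓ symOn (σ.support : Set α) : Subgroup _) ∣ 6 := by
    let S : Set α := σ.support
    let H : Subgroup (Perm α) := alternatingGroup α ⊓ symOn S
    have hS : S.ncard = 3 := by rw [Set.ncard_coe_finset, h3.card_support]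
    obtain ⟨a, ha⟩ : S.Nonempty := Set.nonempty_of_ncard_ne_zero (by omega)
    have hs : stabilizer H a = ⊥ := by
      rw [eq_bot_iff]
      intro g hg
      rw [Subgroup.mem_bot]
      apply Subtype.ext
      by_contra hne
      have h4 : g.1.support ⊆ σ.support.erase a := fun y hy => by
        rw [Finset.mem_erase]
        refine ⟨fun e => mem_support.mp hy (e ▸ hg), ?_⟩
        by_contra hy'
        exact mem_support.mp hy (mem_symOn.mp g.2.2 y hy')
      have h5 := Finset.card_le_card h4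
      rw [Finset.card_erase_of_mem ha, h3.card_support] at h5
      have h6 := two_le_card_support_of_ne_one hne
      have h7 := (card_support_eq_two.mp (le_antisymm h5 h6)).sign_eq
      rw [mem_alternatingGroup.mp g.2.1] at h7
      exact absurd h7 (by decide)
    have h4 : Nat.card H = (orbit H a).ncard := by
      rw [← index_stabilizer, hs, Subgroup.index_bot]
    have h5 := Set.ncard_le_ncard (orbit_subset_of_le_symOn (P := H) inf_le_right ha)
      (Set.toFinite _)
    have h6 : 3 ∣ Nat.card H := h1 ▸ Subgroup.card_dvd_of_le hle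
    have h7 : 0 < Nat.card H := Nat.card_pos
    have : Nat.card H = 3 := by omega
    change 2 * Nat.card H ∣ 6
    rw [this]
  have h4 := Nat.le_of_dvd (by norm_num) h2
  rw [← Subgroup.eq_of_le_of_card_ge hle (by omega)] at hg
  exact (Subgroup.zpowers_le.mpr hσ) hg

theorem Full.dvd_card {D : Set α} (h : Full M D) {s : ℕ} (hs : s.Prime) (h2 : s ≠ 2)
    (hD : s ≤ D.ncard) : s ∣ Nat.card M := by
  obtain ⟨c, hc, hcs, hcD⟩ := exists_cycle_in hs.two_le hD
  rw [← hcs, ← hc.orderOf]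
  exact Subgroup.orderOf_dvd_natCard M
    (h.le ⟨mem_alt_of_cycle hc (hcs ▸ hs.odd_of_ne_two h2), hcD⟩)

theorem apply_mem_blk_of_threeCycle {σ : Perm α} (hσ : σ ∈ M) (h3 : IsThreeCycle σ) (x : α) :
    σ x ∈ blk M x := by
  by_cases hx : σ x = x
  · exact Or.inl hx
  · exact Or.inr ⟨_, full_support hσ h3, mem_support.mpr hx,
      apply_mem_support.mpr (mem_support.mpr hx)⟩

/-- Any three points contain a point of a full set. -/
theorem exists_full (h : ¬ 3 ∣ M.relIndex (alternatingGroup α)) {T : Set α} (hT : 3 ≤ T.ncard) :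
    ∃ x ∈ T, Full M (blk M x) := by
  have : Fact (Nat.Prime 3) := ⟨Nat.prime_three⟩
  obtain ⟨x, hx, c, hc, -, h3, hcx⟩ := exists_moved (by norm_num) h hT
  exact ⟨x, hx, full_blk_of_ne
    (apply_mem_blk_of_threeCycle hc (card_support_eq_three_iff.mp h3) x) hcx⟩

/-- At most two classes have size prime to three. -/
theorem blk_eq_of_not_dvd (h : ¬ 3 ∣ M.relIndex (alternatingGroup α)) {x y z : α}
    (hx : ¬ 3 ∣ (blk M x).ncard) (hy : ¬ 3 ∣ (blk M y).ncard) (hz : ¬ 3 ∣ (blk M z).ncard)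
    (hxy : blk M x ≠ blk M y) : blk M z = blk M x ∨ blk M z = blk M y := by
  have : Fact (Nat.Prime 3) := ⟨Nat.prime_three⟩
  obtain ⟨P, hPM, hP⟩ := exists_sylIn_alt h
  let N : Subgroup (Perm α) :=
    { carrier := {g | ∀ x, g x ∈ blk M x}
      one_mem' := fun x => mem_blk_self x
      mul_mem' := fun {a b} ha hb x => by
        rw [Perm.mul_apply, ← blk_eq_of_mem (hb x)]; exact ha _
      inv_mem' := fun {a} ha x => by
        rw [mem_blk_comm]; simpa using ha (a⁻¹ x) }
  have hQ : IsPGroup 3 (P ⊓ N : Subgroup (Perm α)) := hP.pgrp.to_inf_left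
  have key : ∀ x, ¬ 3 ∣ (blk M x).ncard → ∃ u ∈ blk M x, ∀ g ∈ P ⊓ N, g u = u := fun x hx => by
    by_contra hn
    push Not at hn
    refine hx (dvd_ncard_of_orbits (P ⊓ N) (blk M x) (Set.toFinite _) (fun g hg u hu => ?_)
      fun u hu => ?_)
    · rw [← blk_eq_of_mem hu]; exact hg.2 u
    · obtain ⟨k, hk⟩ := exists_ncard_orbit hQ u
      rw [hk]
      refine dvd_pow_self _ fun h0 => ?_
      rw [h0, pow_zero, Set.ncard_eq_one] at hk
      obtain ⟨v, hv⟩ := hk
      obtain ⟨g, hg, hgu⟩ := hn u hu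
      have h1 : g u ∈ orbit (P ⊓ N : Subgroup (Perm α)) u := mem_orbit_subgroup.mpr ⟨g, hg, rfl⟩
      have h2 : u ∈ orbit (P ⊓ N : Subgroup (Perm α)) u := mem_orbit_self _
      rw [hv] at h1 h2
      exact hgu (h1.trans h2.symm)
  obtain ⟨x', hx', hx1⟩ := key x hx
  obtain ⟨y', hy', hy1⟩ := key y hy
  obtain ⟨z', hz', hz1⟩ := key z hz
  by_contra hn
  push Not at hn
  have h3 : ({x', y', z'} : Set α).ncard = 3 := Set.ncard_eq_three.mpr ⟨x', y', z',
    fun e => hxy (by rw [← blk_eq_of_mem hx', e, blk_eq_of_mem hy']),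
    fun e => hn.1 (by rw [← blk_eq_of_mem hx', e, blk_eq_of_mem hz']),
    fun e => hn.2 (by rw [← blk_eq_of_mem hy', e, blk_eq_of_mem hz']), rfl⟩
  obtain ⟨c, hc, h1, h4, h5⟩ := exists_pcycle (by norm_num) le_rfl hP
    (U := {u | ∀ g ∈ P ⊓ N, g u = u}) (fun g hg u hu k hk => by
      have := hu (g⁻¹ * k * g) ⟨P.mul_mem (P.mul_mem (P.inv_mem hg) hk.1) hg, fun v => by
        have h6 := hk.2 (g v)
        rw [← image_blk (le_partStab_blk (hPM hg))] at h6
        obtain ⟨w, hw, hw'⟩ := h6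
        rw [Perm.mul_apply, Perm.mul_apply, ← hw']
        simpa using hw⟩
      simpa [Equiv.symm_apply_eq] using this)
    (h3 ▸ Set.ncard_le_ncard (by
      rintro _ (rfl | rfl | rfl)
      exacts [hx1, hy1, hz1]) (Set.toFinite _))
  obtain ⟨u, hu, -⟩ := id h1
  have hu' : u ∈ {u | ∀ g ∈ P ⊓ N, g u = u} := by
    by_contra hu'
    exact hu (mem_symOn.mp h5 u hu')
  exact hu (hu' c ⟨hc, apply_mem_blk_of_threeCycle (hPM hc) (card_support_eq_three_iff.mp h4)⟩)

end H5.SN
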