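import Mathlib
import Cfsg.Agent.S5164
import Cfsg.Agent.Lib.Tech58.Qd
import Cfsg.Agent.Lib.InvChar.SymSix

/-!
`p`-subgroups of `S_n` for `n < p²`, the affine action of `Qd(p)`, automorphisms of odd order of
alternating groups.
-/

set_option autoImplicit false

open MulAction Equiv Equiv.Perm

namespace H5.SN

theorem comm_of_card_lt {α : Type*} [Fintype α] {p : ℕ} [Fact p.Prime]
    (h : Fintype.card α < p ^ 2) {P : Subgroup (Perm α)} (hP : IsPGroup p P) {a b : Perm α}
    (ha : a ∈ P) (hb : b ∈ P) : a * b = b * a := by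
  classical
  have : a * b * a⁻¹ * b⁻¹ = 1 := by
    ext x
    have := Cfsg.Agent.S5164.comm_mem_of_index hP (stabilizer P x) (by
      rw [index_stabilizer]
      refine lt_of_le_of_lt ?_ h
      rw [← Nat.card_eq_fintype_card, ← Set.ncard_univ]
      exact Set.ncard_le_ncard (Set.subset_univ _) (Set.toFinite _)) ⟨a, ha⟩ ⟨b, hb⟩
    exact this
  rwa [mul_inv_eq_one, mul_inv_eq_iff_eq_mul] at this

/-- Commutativity of `p`-subgroups passes to images. -/
theorem comm_of_surjective {K Q : Type*} [Group K] [Group Q] [Finite K] {p : ℕ} [Fact p.Prime]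
    (f : K →* Q) (hf : Function.Surjective f)
    (h : ∀ P : Subgroup K, IsPGroup p P → ∀ a ∈ P, ∀ b ∈ P, a * b = b * a)
    {P : Subgroup Q} (hP : IsPGroup p P) {a b : Q} (ha : a ∈ P) (hb : b ∈ P) : a * b = b * a := by
  obtain ⟨S, hS⟩ := hP.exists_le_sylow
  obtain ⟨T, rfl⟩ := Sylow.mapSurjective_surjective hf p S
  obtain ⟨a', ha', rfl⟩ := hS ha
  obtain ⟨b', hb', rfl⟩ := hS hb
  rw [← map_mul, ← map_mul, h T T.2 a' ha' b' hb']

theorem comm_of_injective {K Q : Type*} [Group K] [Group Q] {p : ℕ}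
    (f : K →* Q) (hf : Function.Injective f)
    (h : ∀ P : Subgroup Q, IsPGroup p P → ∀ a ∈ P, ∀ b ∈ P, a * b = b * a)
    (P : Subgroup K) (hP : IsPGroup p P) : ∀ a ∈ P, ∀ b ∈ P, a * b = b * a := fun a ha b hb =>
  hf (by rw [map_mul, map_mul]; exact h _ (hP.map f) _ ⟨a, ha, rfl⟩ _ ⟨b, hb, rfl⟩)

section Qd

open H58.Qd Cfsg

variable {p : ℕ} [Fact p.Prime]

theorem not_surjective_qd {K : Type*} [Group K] [Finite K] (f : K →* qd p)
    (hf : Function.Surjective f)
    (h : ∀ P : Subgroup K, IsPGroup p P → ∀ a ∈ P, ∀ b ∈ P, a * b = b * a) : False := by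
  have h1 : IsPGroup p (Subgroup.zpowers (tv (1 : ZMod p)) ⊔ V p : Subgroup (qd p)) := by
    refine IsPGroup.to_sup_of_normal_right ?_ isPGroup_V
    rintro ⟨_, k, rfl⟩
    refine ⟨1, Subtype.ext ?_⟩
    change (tv (1 : ZMod p) ^ k) ^ p ^ 1 = 1
    rw [pow_one, ← zpow_natCast, ← zpow_mul, mul_comm, zpow_mul, zpow_natCast, tv_one_pow_p,
      one_zpow]
  have h2 := comm_of_surjective f hf h h1 (a := tv 1) (b := tr 0 1)
    (Subgroup.mem_sup_left (Subgroup.mem_zpowers _)) (Subgroup.mem_sup_right (mem_V.mpr ⟨_, _, rfl⟩))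
  have h3 := tv_comm_tr (0 : ZMod p) 1
  rw [h2, mul_inv_cancel_right, mul_inv_cancel, one_eq_aff] at h3
  exact zero_ne_one (aff_inj.mp h3).2.2.2.2.1

/-- The affine action of `Qd(p)`. -/
@[reducible] def qdAct (p : ℕ) [Fact p.Prime] : MulAction (qd p) (ZMod p × ZMod p) where
  smul g v := (g.1.1 0 0 * v.1 + g.1.1 0 1 * v.2 + g.1.1 0 2,
    g.1.1 1 0 * v.1 + g.1.1 1 1 * v.2 + g.1.1 1 2)
  one_smul v := by
    change ((1 : Matrix (Fin 3) (Fin 3) (ZMod p)) 0 0 * v.1 +
      (1 : Matrix (Fin 3) (Fin 3) (ZMod p)) 0 1 * v.2 + (1 : Matrix (Fin 3) (Fin 3) (ZMod p)) 0 2,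
      (1 : Matrix (Fin 3) (Fin 3) (ZMod p)) 1 0 * v.1 +
      (1 : Matrix (Fin 3) (Fin 3) (ZMod p)) 1 1 * v.2 +
      (1 : Matrix (Fin 3) (Fin 3) (ZMod p)) 1 2) = v
    simp
  mul_smul g h v := by
    obtain ⟨a, b, c, d, x, y, h1, rfl⟩ := exists_aff g
    obtain ⟨a', b', c', d', x', y', h2, rfl⟩ := exists_aff h
    rw [aff_mul]
    change ((a * a' + b * c') * v.1 + (a * b' + b * d') * v.2 + (a * x' + b * y' + x),
      (c * a' + d * c') * v.1 + (c * b' + d * d') * v.2 + (c * x' + d * y' + y)) =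
      (a * (a' * v.1 + b' * v.2 + x') + b * (c' * v.1 + d' * v.2 + y') + x,
        c * (a' * v.1 + b' * v.2 + x') + d * (c' * v.1 + d' * v.2 + y') + y)
    refine Prod.ext ?_ ?_ <;> simp only <;> ring

theorem exists_qd_perm : ∃ f : qd p →* Perm (ZMod p × ZMod p), Function.Injective f := by
  let _ := qdAct p
  refine ⟨toPermHom (qd p) (ZMod p × ZMod p), (injective_iff_map_eq_one _).mpr fun g hg => ?_⟩
  obtain ⟨a, b, c, d, x, y, h1, rfl⟩ := exists_aff g
  have h : ∀ u v : ZMod p, (a * u + b * v + x, c * u + d * v + y) = (u, v) := fun u v =>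
    congrArg (fun σ : Perm (ZMod p × ZMod p) => σ (u, v)) hg
  have h0 := h 0 0
  have h2 := h 1 0
  have h3 := h 0 1
  simp only [mul_zero, add_zero, zero_add, mul_one, Prod.mk.injEq] at h0 h2 h3
  obtain ⟨rfl, rfl⟩ := h0
  simp only [add_zero] at h2 h3
  rw [one_eq_aff, aff_inj]
  exact ⟨h2.1, h3.1, h2.2, h3.2, rfl, rfl⟩

theorem qd_hom_eq_one (hp : p ≠ 2) (χ : qd p →* ℤˣ) (g : qd p) : χ g = 1 := by
  have hodd : Odd p := (Fact.out : p.Prime).odd_of_ne_two hp
  have h0 : ∀ g : qd p, g ^ p = 1 → χ g = 1 := fun g hg => by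
    have h1 : χ g ^ p = 1 := by rw [← map_pow, hg, map_one]
    rcases Int.units_eq_one_or (χ g) with h2 | h2
    · exact h2
    · rw [h2, hodd.neg_one_pow] at h1
      exact absurd h1 (by decide)
  have htr : ∀ x y : ZMod p, χ (tr x y) = 1 := fun x y =>
    h0 _ (pow_eq_one_of_mem_V (mem_V.mpr ⟨_, _, rfl⟩))
  have htv : ∀ s : ZMod p, χ (tv s) = 1 := fun s => h0 _ (by rw [tv_pow]; simp [tv_zero])
  have htl : ∀ s : ZMod p, χ (tl s) = 1 := fun s => by
    rw [← neg_neg s, ← wy_conj_tv, map_mul, map_mul, htv, map_inv]; simp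
  have key : ∀ (a b c d x y : ZMod p) (h : a * d - b * c = 1), c ≠ 0 →
      χ (aff a b c d x y h) = 1 := fun a b c d x y h hc => by
    have : aff a b c d x y h = tr x y * (tv ((a - 1) / c) * tl c * tv ((d - 1) / c)) := by
      unfold tr tv tl
      rw [aff_mul, aff_mul, aff_mul, aff_inj]
      refine ⟨?_, ?_, ?_, ?_, ?_, ?_⟩ <;> field_simp
      · ring
      · linear_combination -h
      · ring
      · ring
      · ring
      · ring
    rw [this, map_mul, map_mul, map_mul, htr, htv, htv, htl]; simp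
  obtain ⟨a, b, c, d, x, y, h, rfl⟩ := exists_aff g
  by_cases hc : c = 0
  · have ha : 1 * a + 1 * c ≠ 0 := by
      rintro h'
      rw [hc, mul_zero, add_zero, one_mul] at h'
      rw [h', hc] at h
      simp at h
    have h1 : χ (tl 1 * aff a b c d x y h) = 1 := by
      unfold tl; rw [aff_mul]; exact key _ _ _ _ _ _ _ ha
    rwa [map_mul, htl, one_mul] at h1
  · exact key _ _ _ _ _ _ _ hc

end Qd

/-- A faithful even action on at most `n` points gives an embedding in `A_n`. -/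
theorem exists_alt_embedding {G α : Type*} [Group G] [Fintype α] [DecidableEq α]
    (f : G →* Perm α) (hf : Function.Injective f) (hs : ∀ g, sign (f g) = 1) {n : ℕ}
    (hn : Fintype.card α ≤ n) :
    ∃ φ : G →* alternatingGroup (Fin n), Function.Injective φ := by
  classical
  obtain ⟨ι⟩ : Nonempty (α ↪ Fin n) :=
    Function.Embedding.nonempty_of_card_le (by simpa using hn)
  let e := Equiv.Perm.extendDomainHom (Equiv.ofInjective ι.1 ι.2)
  have he : Function.Injective e := Equiv.Perm.extendDomainHom_injective _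
  refine ⟨(e.comp f).codRestrict _ fun g => ?_, fun a b h => hf (he (congrArg Subtype.val h))⟩
  rw [Equiv.Perm.mem_alternatingGroup, ← hs g]
  exact Equiv.Perm.sign_extendDomain _ _

theorem exists_perm_of_odd {n : ℕ} (hn : 5 ≤ n) (φ : MulAut (alternatingGroup (Fin n)))
    (h : Odd (orderOf φ)) :
    φ ∈ (MulAut.conjNormal : Perm (Fin n) →* MulAut (alternatingGroup (Fin n))).range := by
  by_cases h6 : n = 6
  · subst h6
    have key : ∀ ψ : MulAut (alternatingGroup (Fin 6)), ∀ x : alternatingGroup (Fin 6),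
        IsThreeCycle x.1 → IsThreeCycle ((ψ * ψ) x).1 := fun ψ x hx => by
      have ho : ∀ y : alternatingGroup (Fin 6), IsThreeCycle y.1 → orderOf y = 3 := fun y hy => by
        rw [← Subgroup.orderOf_coe, hy.orderOf]
      have h1 : orderOf (ψ x) = 3 := by rw [MulEquiv.orderOf_eq, ho x hx]
      have h2 : orderOf (ψ (ψ x)) = 3 := by rw [MulEquiv.orderOf_eq, h1]
      change IsThreeCycle (ψ (ψ x)).1
      by_cases h3 : IsThreeCycle (ψ x).1
      · have h4 := H72.isConj_alt_six (ho x hx) h1 ⟨fun _ => h3, fun _ => hx⟩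
        exact H72.isThreeCycle_of_isConj (ψ.toMonoidHom.map_isConj h4) h3
      · by_contra h4
        have h5 := H72.isConj_alt_six h1 h2 ⟨fun h => absurd h h3, fun h => absurd h h4⟩
        have h6 := ψ.symm.toMonoidHom.map_isConj h5
        simp only [MulEquiv.toMonoidHom_eq_coe, MonoidHom.coe_coe, MulEquiv.symm_apply_apply] at h6
        exact h3 (H72.isThreeCycle_of_isConj h6 hx)
    obtain ⟨k, hk⟩ := h
    have : φ = φ ^ (k + 1) * φ ^ (k + 1) := by
      rw [← pow_add, show k + 1 + (k + 1) = 2 * k + 1 + 1 by ring, ← hk, pow_succ,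
        pow_orderOf_eq_one, one_mul]
    obtain ⟨g, hg⟩ := H29.exists_perm_of_isThreeCycle (by simp) φ (by rw [this]; exact key _)
    exact ⟨g, MulEquiv.ext fun x => Subtype.ext (hg x).symm⟩
  · exact (H29.conjNormal_alt_bijective (by simp; omega) (by simpa using h6)).2 φ

theorem comm_aut_of_lt {n q : ℕ} [Fact q.Prime] (hq : q ≠ 2) (hn : 5 ≤ n) (h : n < q ^ 2)
    (P : Subgroup (MulAut (alternatingGroup (Fin n)))) (hP : IsPGroup q P) :
    ∀ a ∈ P, ∀ b ∈ P, a * b = b * a := by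
  let f := (MulAut.conjNormal : Perm (Fin n) →* MulAut (alternatingGroup (Fin n)))
  have hf : Function.Injective f := (injective_iff_map_eq_one f).mpr fun g hg =>
    H29.eq_one_of_centralizes_alt (by simp; omega) fun x hx =>
      congrArg Subtype.val (MulEquiv.congr_fun hg ⟨x, hx⟩)
  have hr : ∀ a ∈ P, a ∈ f.range := fun a ha => by
    refine exists_perm_of_odd hn a ?_
    obtain ⟨k, hk⟩ := hP ⟨a, ha⟩
    have : orderOf a ∣ q ^ k := orderOf_dvd_of_pow_eq_one (congrArg Subtype.val hk)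
    exact Odd.of_dvd_nat (((Fact.out : q.Prime).odd_of_ne_two hq).pow) this
  intro a ha b hb
  obtain ⟨a, rfl⟩ := hr a ha
  obtain ⟨b, rfl⟩ := hr b hb
  rw [← map_mul, ← map_mul, comm_of_card_lt (by simpa using h) (hP.comap_of_injective f hf) ha hb]

theorem exists_alt_orderOf {n p q : ℕ} (hp : p.Prime) (hq : q.Prime) (hpq : p ≠ q) (hq2 : q ≠ 2)
    (h : (p = 2 ∧ q + 4 ≤ n) ∨ (p ≠ 2 ∧ p + q ≤ n)) :
    ∃ x : alternatingGroup (Fin n), orderOf x = p * q := by
  have hc : Nat.Coprime p q := (Nat.coprime_primes hp hq).mpr hpq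
  obtain ⟨k, hk⟩ := hq.odd_of_ne_two hq2
  rcases h with ⟨rfl, h⟩ | ⟨h2, h⟩
  · obtain ⟨g, hg⟩ := (exists_with_cycleType_iff (Fin n) (m := {2, 2, q})).mpr
      ⟨by simp; omega, by have := hq.two_le; simp; omega⟩
    refine ⟨⟨g, ?_⟩, ?_⟩
    · rw [mem_alternatingGroup, sign_of_cycleType, hg]
      exact Even.neg_one_pow ⟨k + 4, by simp; omega⟩
    · rw [← Subgroup.orderOf_coe, ← lcm_cycleType, hg]
      simp only [Multiset.insert_eq_cons, Multiset.lcm_cons, Multiset.lcm_singleton,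
        normalize_eq, lcm_eq_nat_lcm, hc.lcm_eq_mul]
      exact Nat.lcm_eq_right (dvd_mul_right _ _)
  · obtain ⟨l, hl⟩ := hp.odd_of_ne_two h2
    obtain ⟨g, hg⟩ := (exists_with_cycleType_iff (Fin n) (m := {p, q})).mpr
      ⟨by simp; omega, by have := hq.two_le; have := hp.two_le; simp; omega⟩
    refine ⟨⟨g, ?_⟩, ?_⟩
    · rw [mem_alternatingGroup, sign_of_cycleType, hg]
      exact Even.neg_one_pow ⟨k + l + 2, by simp; omega⟩
    · rw [← Subgroup.orderOf_coe, ← lcm_cycleType, hg]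
      simp only [Multiset.insert_eq_cons, Multiset.lcm_cons, Multiset.lcm_singleton,
        normalize_eq, lcm_eq_nat_lcm, hc.lcm_eq_mul]

end H5.SN
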